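import Groth.Agent.Lib.FibreDiv12.Zariski
import Groth.Agent.Lib.CurveMult.RationalPoint
import Groth.Agent.Lib.RatSing29.StalkRational
import Groth.Agent.Lib.GenericSmooth.Basic

/-!
# Divisors supported on a fibre of a fibred surface
-/

set_option autoImplicit false
set_option backward.isDefEq.respectTransparency false
set_option linter.all false

universe u

open CategoryTheory CategoryTheory.Limits AlgebraicGeometry TopologicalSpace

noncomputable section

namespace GrothLib.FibreDiv12

open GrothLib.Cube (Pic clsMod)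
open GrothLib.HodgeIndex (isect deg curveIdeal cCl)
open GrothLib.Snapper (IsTop)

variable {X B : Scheme.{u}}

theorem isPreconnected_fibre (f : X ⟶ B) [IsProper f] [IsLocallyNoetherian B]
    (hconn : IsIso (ClSub.unitToPush f)) (p : B) : _root_.IsPreconnected (f ⁻¹' {p} : Set X) := by
  haveI := hconn
  haveI := Stein.preconnectedSpace_fiber f p fun V _ _ => by
    have h : Function.Bijective ((ClSub.unitToPush f).app V) :=
      ConcreteCategory.bijective_of_isIso ((ClSub.unitToPush f).app V)
    exact h.2
  rw [← f.range_fiberι p]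
  exact isPreconnected_range (f.fiberι p).continuous

theorem support_listProd : ∀ l : List X, ((l.map curveIdeal).prod.support : Set X) =
    ⋃ y ∈ l, closure ({y} : Set X)
  | [] => by simp
  | y :: l => by
    rw [List.map_cons, List.prod_cons, Scheme.IdealSheafData.support_mul, Closeds.coe_sup, support_listProd l,
      Scheme.IdealSheafData.coe_support_vanishingIdeal]
    simp

variable (k : Type u) [Field k] [X.Over (Spec (CommRingCat.of k))]
  [IsProper (X ↘ Spec (CommRingCat.of k))] [IsIntegral X] [Smooth (X ↘ Spec (CommRingCat.of k))] [IsAlgClosed k]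
  (hdim : topologicalKrullDim X = ((2 : ℕ) : WithBot ℕ∞))
  [B.Over (Spec (CommRingCat.of k))] [IsProper (B ↘ Spec (CommRingCat.of k))]
  [Smooth (B ↘ Spec (CommRingCat.of k))] [IsIntegral B] (hdimB : topologicalKrullDim B = 1)
  (f : X ⟶ B) (hf : f ≫ B ↘ Spec (CommRingCat.of k) = X ↘ Spec (CommRingCat.of k)) [Surjective f]
  {p : B} (hp : IsClosed ({p} : Set B))

/-- The ideal of the fibre. -/
abbrev fibreIdeal : X.IdealSheafData := (Scheme.IdealSheafData.vanishingIdeal ⟨{p}, hp⟩).comap f

theorem support_fibreIdeal : ((fibreIdeal f hp).support : Set X) = f ⁻¹' {p} := by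
  rw [Scheme.IdealSheafData.support_comap]
  show f ⁻¹' ((Scheme.IdealSheafData.vanishingIdeal (⟨{p}, hp⟩ : Closeds B)).support : Set B) = _
  rw [Scheme.IdealSheafData.coe_support_vanishingIdeal]
  rfl

include k hdimB in
theorem isEffCartier_fibreIdeal : _root_.BlowUp.IsEffCartierIdeal (fibreIdeal f hp) := by
  haveI : IsDominant f := inferInstance
  exact RatSing29.isEffCartierIdeal_comap_of_generic f (GenericSmooth.map_genericPoint_of_denseRange f f.denseRange)
    (CurveMult.isEffCartierIdeal_point k hdimB hp (HodgeIndex.regular_of_smooth k p))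

include hdimB hf in
theorem deg_fibreIdeal (hF : PicF.IsInvertible (ClSub.idealMod (fibreIdeal f hp))) {y : X} (hy : IsTop 1 y)
    (hyp : f y = p) : deg k y (clsMod hF) = 0 := by
  let I₀ := Scheme.IdealSheafData.vanishingIdeal (⟨{p}, hp⟩ : Closeds B)
  let i := I₀.subschemeι
  let i' := pullback.fst f i
  haveI : IsClosedImmersion i' := MorphismProperty.pullback_fst _ _ inferInstance
  have hker : i'.ker = i.ker.comap f := Scheme.IdealSheafData.ker_fst_of_isClosedImmersion i f
  have e : i.ker.comap f = fibreIdeal f hp := by rw [I₀.ker_subschemeι]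
  have hI : PicF.IsInvertible (ClSub.idealMod i.ker) := by
    rw [I₀.ker_subschemeι]
    exact IdealModSec.isInvertible_of_isEffCartier
      (CurveMult.isEffCartierIdeal_point k hdimB hp (HodgeIndex.regular_of_smooth k p))
  have hJ : PicF.IsInvertible (ClSub.idealMod i'.ker) := by rw [hker, e]; exact hF
  have key : ∀ (J : X.IdealSheafData) (h : PicF.IsInvertible (ClSub.idealMod J)), J = fibreIdeal f hp →
      clsMod h = clsMod hF := by
    rintro J h rfl; rfl
  obtain ⟨φ⟩ := HodgeIndex.nonempty_pullback_idealMod i i' (pullback.snd f i) f pullback.condition hker hI hJ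
  rw [← key _ hJ (hker.trans e), ← (Cube.clsMod_eq_iff (Kleiman.isInv_pullback f hI) hJ).2 ⟨φ⟩]
  exact (HodgeIndex.deg_pullback k f hf hI hy).1 (hyp ▸ HodgeIndex.not_isTop_of_isClosed hp)

include hdim hdimB hf in
/-- Data for Zariski's lemma from a power of a divisor being the fibre. -/
theorem fibre_list [DecidableEq X] (hconn : IsIso (ClSub.unitToPush f)) {m : ℕ} (hm : 1 ≤ m) {IE : X.IdealSheafData}
    (l : List X) (hl : ∀ y ∈ l, IsTop 1 y) (hIE : IE = (l.map curveIdeal).prod) (hpow : IE ^ m = fibreIdeal f hp) :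
    (∀ y ∈ l, f y = p) ∧ (∀ y ∈ l, isect k (lcl l) (cCl (curveIdeal y)) = 0) ∧
      _root_.IsPreconnected (⋃ y ∈ l.toFinset, closure ({y} : Set X)) := by
  haveI := Euler.isNoetherian_of_proper (X := X) k
  haveI := Euler.isNoetherian_of_proper (X := B) k
  haveI : IsProper f := by
    haveI : IsProper (f ≫ B ↘ Spec (CommRingCat.of k)) := hf ▸ inferInstance
    exact IsProper.of_comp f (B ↘ Spec (CommRingCat.of k))
  have hsupp : (⋃ y ∈ l, closure ({y} : Set X)) = f ⁻¹' {p} := by
    rw [← support_listProd, ← hIE, ← support_fibreIdeal f hp, ← hpow,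
      Scheme.IdealSheafData.support_pow _ _ (by omega)]
  have hly : ∀ y ∈ l, f y = p := fun y hy => by
    have : y ∈ f ⁻¹' {p} := by
      rw [← hsupp]
      exact Set.mem_iUnion₂.2 ⟨y, hy, subset_closure rfl⟩
    exact this
  refine ⟨hly, fun y hy => ?_, ?_⟩
  · let lF := (List.replicate m l).flatten
    have hlF : ∀ z ∈ lF, IsTop 1 z := fun z hz => by
      obtain ⟨w, hw, hzw⟩ := List.mem_flatten.1 hz
      rw [List.eq_of_mem_replicate hw] at hzw
      exact hl z hzw
    have hprod : (lF.map curveIdeal).prod = (l.map curveIdeal).prod ^ m := by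
      simp only [lF, List.map_flatten, List.map_replicate, List.prod_flatten, List.prod_replicate]
    have hprod' : lcl lF = lcl l ^ m := by
      simp only [lcl, lF, List.map_flatten, List.map_replicate, List.prod_flatten, List.prod_replicate]
    have hF := IdealModSec.isInvertible_of_isEffCartier (isEffCartier_fibreIdeal k hdimB f hp)
    have hcls : (clsMod hF)⁻¹ = lcl lF :=
      RatCyc12.cls_eq_list k hdim hF lF hlF (by rw [hprod, ← hIE, hpow])
    rw [hprod'] at hcls
    have h0 := deg_fibreIdeal k hdimB f hf hp hF (hl y hy) (hly y hy)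
    rw [← inv_inv (clsMod hF), hcls, Goodman.deg_inv k (hl y hy), neg_eq_zero,
      RatCyc12.deg_eq_ccl k hdim (hl y hy), HodgeIndex.isect_pow_left k hdim.le] at h0
    have h1 : (m : ℤ) * isect k (lcl l) (cCl (curveIdeal y)) = 0 := by exact_mod_cast h0
    exact (mul_eq_zero.1 h1).resolve_left (by exact_mod_cast (show m ≠ 0 by omega))
  · have e : (⋃ y ∈ l.toFinset, closure ({y} : Set X)) = ⋃ y ∈ l, closure ({y} : Set X) := by
      simp only [List.mem_toFinset]
    rw [e, hsupp]
    exact isPreconnected_fibre f hconn p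

end GrothLib.FibreDiv12
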