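import Groth.Agent.Lib.NumConn12.Restrict
import Groth.Agent.Lib.ClosedHom20.Basic
import Groth.Agent.Lib.K0Sub.PushExact
import Groth.Agent.Lib.CurveMult.DegHom
import Groth.Agent.Lib.DecSh20.Basic
import Groth.Agent.Lib.ASBun21.PushFree

/-!
# Line bundles on thickened curves: filtration by the curves
-/

set_option autoImplicit false
set_option backward.isDefEq.respectTransparency false
set_option linter.all false

universe u

open CategoryTheory CategoryTheory.Limits AlgebraicGeometry TopologicalSpace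

noncomputable section

namespace GrothLib.FibreDiv12

open GrothLib.Cube (Pic clsMod)
open GrothLib.HodgeIndex (isect deg curveIdeal cCl)
open GrothLib.Snapper (IsTop)
open GrothLib.Euler (tF)

variable {X D : Scheme.{u}} (ιD : D ⟶ X) [IsClosedImmersion ιD]

/-- Restriction of a quotient of `O_X` to `D`. -/
abbrev quotOn (A : X.IdealSheafData) : D.Modules := (Scheme.Modules.pullback ιD).obj (ClSub.quotMod A)

theorem seq_step {Y : Scheme.{u}} (k : Type u) [Field k] [Y.Over (Spec (CommRingCat.of k))]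
    [IsProper (Y ↘ Spec (CommRingCat.of k))] {N : Y.Modules} (hlf : FlatMod.IsFinLocFree N)
    {A B C : Y.Modules} (f : A ⟶ B) (g : B ⟶ C) (w : f ≫ g = 0) (hT : (ShortComplex.mk f g w).ShortExact)
    {Y₁ Y₂ Y₃ : Y.Modules} (d₁ : A ≅ Y₁) (d₂ : B ≅ Y₂) (d₃ : C ≅ Y₃) :
    (Coh.IsCoh Y₁ → Coh.IsCoh Y₂ → Coh.IsCoh Y₃ →
      Curv2.euler k Y Y₂ = Curv2.euler k Y Y₁ + Curv2.euler k Y Y₃ ∧
        Curv2.euler k Y ((tF N).obj Y₂) = Curv2.euler k Y ((tF N).obj Y₁) + Curv2.euler k Y ((tF N).obj Y₃)) ∧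
    (Subsingleton (Coh.HH Y ((tF N).obj Y₁) 0) → Subsingleton (Coh.HH Y ((tF N).obj Y₃) 0) →
      Subsingleton (Coh.HH Y ((tF N).obj Y₂) 0)) := by
  haveI := Euler.isNoetherian_of_proper (X := Y) k
  have hTN := OX.tensor_map_shortExact (OX.flat_of_isFinLocFree hlf) hT
  refine ⟨fun c₁ c₂ c₃ => ?_, fun h1 h3 => ?_⟩
  · have hA := QCoh.isCoh_of_iso d₁.symm c₁
    have hB := QCoh.isCoh_of_iso d₂.symm c₂
    have hC := QCoh.isCoh_of_iso d₃.symm c₃
    have u1 := Euler.euler_additive k hT hA hB hC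
    have u2 := Euler.euler_additive k hTN
    simp only [ShortComplex.map_X₁, ShortComplex.map_X₂, ShortComplex.map_X₃] at u2
    refine ⟨?_, ?_⟩
    · rw [← Euler.euler_of_iso k d₁, ← Euler.euler_of_iso k d₂, ← Euler.euler_of_iso k d₃]
      exact u1
    · rw [← Euler.euler_of_iso k ((tF N).mapIso d₁), ← Euler.euler_of_iso k ((tF N).mapIso d₂),
        ← Euler.euler_of_iso k ((tF N).mapIso d₃)]
      exact u2 (Euler.isCoh_tF hA hlf) (Euler.isCoh_tF hB hlf) (Euler.isCoh_tF hC hlf)
  · haveI h1' : Subsingleton (Coh.HH Y ((tF N).obj A) 0) :=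
      (Euler.hhEquiv (A := k) ((tF N).mapIso d₁) 0).toEquiv.subsingleton
    haveI h3' : Subsingleton (Coh.HH Y ((tF N).obj C) 0) :=
      (Euler.hhEquiv (A := k) ((tF N).mapIso d₃) 0).toEquiv.subsingleton
    haveI h2 : Subsingleton (Coh.HH Y ((tF N).obj B) 0) := by
      refine subsingleton_of_forall_eq 0 fun z => ?_
      obtain ⟨w, hw⟩ := (Cohom.exact₂ (A := k) hTN 0 z).1 (@Subsingleton.elim _ h3' _ _)
      rw [← hw, @Subsingleton.elim _ h1' w 0, map_zero]
    exact (Euler.hhEquiv (A := k) ((tF N).mapIso d₂) 0).symm.toEquiv.subsingleton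

theorem nonempty_pull_push (M : D.Modules) :
    Nonempty ((Scheme.Modules.pullback ιD).obj ((Scheme.Modules.pushforward ιD).obj M) ≅ M) := by
  obtain ⟨h1, h2⟩ := ClosedHom20.full_faithful_pushforward ιD
  haveI := ClosedHom20.isIso_unit_push ιD M
  exact ⟨(Functor.FullyFaithful.ofFullyFaithful (Scheme.Modules.pushforward ιD)).preimageIso
    (asIso ((Scheme.Modules.pullbackPushforwardAdjunction ιD).unit.app ((Scheme.Modules.pushforward ιD).obj M))).symm⟩

theorem isIso_unit_of_push {Q : X.Modules} {M : D.Modules} (e : Q ≅ (Scheme.Modules.pushforward ιD).obj M) :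
    IsIso ((Scheme.Modules.pullbackPushforwardAdjunction ιD).unit.app Q) := by
  haveI := ClosedHom20.isIso_unit_push ιD M
  exact (NatTrans.isIso_app_iff_of_iso (Scheme.Modules.pullbackPushforwardAdjunction ιD).unit e).2 inferInstance

theorem nonempty_push_comp {W : Scheme.{u}} (i : W ⟶ X) (l : W ⟶ D) (h : l ≫ ιD = i) (M : W.Modules) :
    Nonempty ((Scheme.Modules.pushforward i).obj M ≅
      (Scheme.Modules.pushforward ιD).obj ((Scheme.Modules.pushforward l).obj M)) := by
  subst h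
  exact ⟨((Scheme.Modules.pushforwardComp l ιD).app M).symm⟩

/-- The inclusion of a closed subscheme contained in `D`. -/
abbrev incl {A : X.IdealSheafData} (h : ιD.ker ≤ A) : A.subscheme ⟶ D :=
  IsClosedImmersion.lift ιD A.subschemeι (by rwa [A.ker_subschemeι])

theorem incl_fac {A : X.IdealSheafData} (h : ιD.ker ≤ A) : incl ιD h ≫ ιD = A.subschemeι :=
  IsClosedImmersion.lift_fac _ _ _

instance {A : X.IdealSheafData} (h : ιD.ker ≤ A) : IsClosedImmersion (incl ιD h) := by
  haveI : IsClosedImmersion (incl ιD h ≫ ιD) := by rw [incl_fac]; infer_instance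
  exact IsClosedImmersion.of_comp (incl ιD h) ιD

theorem nonempty_quotOn {A : X.IdealSheafData} (h : ιD.ker ≤ A) :
    Nonempty (ClSub.quotMod A ≅ (Scheme.Modules.pushforward ιD).obj
      ((Scheme.Modules.pushforward (incl ιD h)).obj (Coh.structureModule A.subscheme))) ∧
    Nonempty (quotOn ιD A ≅ (Scheme.Modules.pushforward (incl ιD h)).obj (Coh.structureModule A.subscheme)) := by
  obtain ⟨e⟩ := nonempty_push_comp ιD A.subschemeι (incl ιD h) (incl_fac ιD h) (Coh.structureModule A.subscheme)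
  obtain ⟨c⟩ := nonempty_pull_push ιD ((Scheme.Modules.pushforward (incl ιD h)).obj (Coh.structureModule A.subscheme))
  exact ⟨⟨e⟩, ⟨(Scheme.Modules.pullback ιD).mapIso e ≪≫ c⟩⟩

theorem isCoh_quotOn [IsLocallyNoetherian D] {A : X.IdealSheafData} (h : ιD.ker ≤ A) :
    Coh.IsCoh (quotOn ιD A) :=
  QCoh.isCoh_of_iso (nonempty_quotOn ιD h).2.some.symm (QCoh.pushUnit_isCoh (incl ιD h))

theorem isZero_quotOn_top : IsZero (quotOn ιD (⊤ : X.IdealSheafData)) := by
  refine Functor.map_isZero _ ((IsZero.iff_id_eq_zero _).2 ?_)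
  haveI : IsEmpty (⊤ : X.IdealSheafData).subscheme := ⟨fun z => by
    have h := Set.mem_range_self (f := (⊤ : X.IdealSheafData).subschemeι) z
    rw [Scheme.IdealSheafData.range_subschemeι, Scheme.IdealSheafData.support_top] at h
    exact h⟩
  refine Scheme.Modules.hom_ext _ _ fun U => AddCommGrpCat.ext fun s => ?_
  haveI : Subsingleton Γ((⊤ : X.IdealSheafData).subscheme, (⊤ : X.IdealSheafData).subschemeι ⁻¹ᵁ U) := by
    rw [show (⊤ : X.IdealSheafData).subschemeι ⁻¹ᵁ U = (⊥ : ((⊤ : X.IdealSheafData).subscheme).Opens) from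
      Opens.ext (Subsingleton.elim _ _)]
    infer_instance
  exact Subsingleton.elim (α := Γ((⊤ : X.IdealSheafData).subscheme, (⊤ : X.IdealSheafData).subschemeι ⁻¹ᵁ U)) _ _

theorem nonempty_quotOn_ker : Nonempty (quotOn ιD ιD.ker ≅ Coh.structureModule D) := by
  obtain ⟨c⟩ := nonempty_pull_push ιD (Coh.structureModule D)
  exact ⟨(Scheme.Modules.pullback ιD).mapIso (ArSurf29.pushUnitIsoQuot ιD).symm ≪≫ c⟩

variable (k : Type u) [Field k] [X.Over (Spec (CommRingCat.of k))] [IsProper (X ↘ Spec (CommRingCat.of k))]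
  [IsIntegral X] [Smooth (X ↘ Spec (CommRingCat.of k))]
  (hdim : topologicalKrullDim X = ((2 : ℕ) : WithBot ℕ∞))
  [D.Over (Spec (CommRingCat.of k))] (hιD : ιD ≫ X ↘ Spec (CommRingCat.of k) = D ↘ Spec (CommRingCat.of k))
  {N : D.Modules} (hN : PicF.IsInvertible N)

open Classical in
/-- The degree of `N` on a curve in `D`. -/
def dC (N : D.Modules) (y : X) : ℤ :=
  if h : ιD.ker ≤ curveIdeal y then
    @Curv2.deg k _ (curveIdeal y).subscheme ⟨(curveIdeal y).subschemeι ≫ X ↘ Spec (CommRingCat.of k)⟩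
      ((Scheme.Modules.pullback (incl ιD h)).obj N) 1
  else 0

/-- The excess of the Euler characteristic of `N` on the subscheme of `A`. -/
def excess (N : D.Modules) (A : X.IdealSheafData) : ℤ :=
  Curv2.euler k D ((tF N).obj (quotOn ιD A)) - Curv2.euler k D (quotOn ιD A)

set_option maxHeartbeats 1600000 in
include hdim hιD hN in
/-- One step of the filtration. -/
theorem step {A : X.IdealSheafData} (hA : PicF.IsInvertible (ClSub.idealMod A)) {y : X} (hy : IsTop 1 y)
    (h : ιD.ker ≤ A * curveIdeal y) :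
    excess ιD k N (A * curveIdeal y) = excess ιD k N A + dC ιD k N y ∧
      ((dC ιD k N y : ℚ) + deg k y (clsMod hA) < 0 → Subsingleton (Coh.HH D ((tF N).obj (quotOn ιD A)) 0) →
        Subsingleton (Coh.HH D ((tF N).obj (quotOn ιD (A * curveIdeal y))) 0)) := by
  haveI := Euler.isNoetherian_of_proper (X := X) k
  haveI : IsProper (D ↘ Spec (CommRingCat.of k)) := by rw [← hιD]; infer_instance
  haveI := Euler.isNoetherian_of_proper (X := D) k
  set C := curveIdeal y with hCdef
  have hC := HodgeIndex.inv_curveIdeal k hdim hy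
  haveI : IsIntegral C.subscheme := Snapper.isIntegral_pt y
  letI : C.subscheme.Over (Spec (CommRingCat.of k)) := ⟨C.subschemeι ≫ X ↘ Spec (CommRingCat.of k)⟩
  haveI : IsProper (C.subscheme ↘ Spec (CommRingCat.of k)) :=
    inferInstanceAs (IsProper (C.subschemeι ≫ X ↘ Spec (CommRingCat.of k)))
  haveI := Euler.isNoetherian_of_proper (X := C.subscheme) k
  have hAC : ιD.ker ≤ C := h.trans (by rw [mul_comm]; exact ArSurf29.mul_le_left' _ _)
  have hA' : ιD.ker ≤ A := h.trans (ArSurf29.mul_le_left' _ _)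
  let j := C.subschemeι
  let l := incl ιD hAC
  have hl : l ≫ D ↘ Spec (CommRingCat.of k) = C.subscheme ↘ Spec (CommRingCat.of k) := by
    rw [← hιD, ← Category.assoc, incl_fac]
    rfl
  obtain ⟨S, hS, ⟨a₁⟩, a₂, a₃, -⟩ := ArSurf29.exists_shortExact_mul' A C hA hC
  obtain ⟨q⟩ := CMReg.nonempty_tensorMod_push j (ClSub.idealMod A) (Euler.isFinLocFree_of_isInvertible hA)
  let AC := (Scheme.Modules.pullback j).obj (ClSub.idealMod A)
  have hACi : PicF.IsInvertible AC := Ample.isInvertible_pullback j hA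
  obtain ⟨p₁⟩ := nonempty_push_comp ιD j l (incl_fac ιD hAC) AC
  let e₁ : S.X₁ ≅ (Scheme.Modules.pushforward ιD).obj ((Scheme.Modules.pushforward l).obj AC) :=
    a₁ ≪≫ GrTilde.tensorModComm _ _ ≪≫ q ≪≫ p₁
  obtain ⟨⟨e₂⟩, ⟨d₂⟩⟩ := nonempty_quotOn ιD h
  obtain ⟨⟨e₃⟩, ⟨d₃⟩⟩ := nonempty_quotOn ιD hA'
  let G := Scheme.Modules.pullback ιD
  let adj := Scheme.Modules.pullbackPushforwardAdjunction ιD
  haveI : IsIso (adj.unit.app S.X₁) := isIso_unit_of_push ιD e₁
  haveI : IsIso (adj.unit.app S.X₂) := isIso_unit_of_push ιD (a₂ ≪≫ e₂)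
  haveI : IsIso (adj.unit.app S.X₃) := isIso_unit_of_push ιD (a₃ ≪≫ e₃)
  obtain ⟨hadd, hlim, hcolim⟩ := K0Sub.pushforward_exact ιD
  haveI := hlim
  haveI := hcolim
  haveI := (ClosedHom20.full_faithful_pushforward ιD).2
  haveI : G.PreservesZeroMorphisms := inferInstance
  let T := S.map G
  have hT : T.ShortExact := by
    have hTP : (T.map (Scheme.Modules.pushforward ιD)).ShortExact := by
      refine ShortComplex.shortExact_of_iso (ShortComplex.isoMk (asIso (adj.unit.app S.X₁))
        (asIso (adj.unit.app S.X₂)) (asIso (adj.unit.app S.X₃)) ?_ ?_) hS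
      · exact (adj.unit.naturality S.f).symm
      · exact (adj.unit.naturality S.g).symm
    haveI : Mono T.f := (Scheme.Modules.pushforward ιD).mono_of_mono_map (show Mono ((Scheme.Modules.pushforward ιD).map T.f) from hTP.mono_f)
    haveI : Epi T.g := (Scheme.Modules.pushforward ιD).epi_of_epi_map (show Epi ((Scheme.Modules.pushforward ιD).map T.g) from hTP.epi_g)
    exact { exact := (T.exact_map_iff_of_faithful (Scheme.Modules.pushforward ιD)).1 hTP.exact }
  obtain ⟨c⟩ := nonempty_pull_push ιD ((Scheme.Modules.pushforward l).obj AC)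
  let d₁ : T.X₁ ≅ (Scheme.Modules.pushforward l).obj AC := G.mapIso e₁ ≪≫ c
  let f₂ : T.X₂ ≅ quotOn ιD (A * C) := G.mapIso a₂
  let f₃ : T.X₃ ≅ quotOn ιD A := G.mapIso a₃
  have hlf := Euler.isFinLocFree_of_isInvertible hN
  obtain ⟨hχ, hH⟩ := seq_step k hlf T.f T.g T.zero hT d₁ f₂ f₃
  let NC := (Scheme.Modules.pullback l).obj N
  have hNC : PicF.IsInvertible NC := Ample.isInvertible_pullback l hN
  haveI := ProjFormula.isIso_projHom l hlf AC
  let c₁ : (tF N).obj ((Scheme.Modules.pushforward l).obj AC) ≅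
      (Scheme.Modules.pushforward l).obj (CohB1.tensorMod NC AC) :=
    GrTilde.tensorModComm ((Scheme.Modules.pushforward l).obj AC) N ≪≫ asIso (ProjFormula.projHom l N AC)
  have hNA := Ample.isInvertible_tensorMod hNC hACi
  have hdC : dC ιD k N y = Curv2.deg k C.subscheme NC 1 := dif_pos hAC
  have hdeg : Curv2.deg k C.subscheme (CohB1.tensorMod NC AC) 1 =
      Curv2.deg k C.subscheme NC 1 + Curv2.deg k C.subscheme AC 1 :=
    CurveMult.deg_tensorMod k (NumConn12.dim_pt hy) hNC hACi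
  refine ⟨?_, fun hneg h3 => hH ?_ h3⟩
  · have hq1 := Euler.isCoh_of_isInvertible hACi
    have hq2 := Euler.isCoh_of_isInvertible hNA
    haveI := hq1.1
    haveI := hq2.1
    obtain ⟨u1, u2⟩ := hχ (ASBun21.isCoh_push_finite l hq1) (isCoh_quotOn ιD h) (isCoh_quotOn ιD hA')
    rw [Snapper.euler_pushforward l hl AC] at u1
    rw [Euler.euler_of_iso k c₁, Snapper.euler_pushforward l hl] at u2
    rw [hdC]
    simp only [Curv2.deg] at hdeg ⊢
    simp only [excess]
    push_cast at hdeg ⊢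
    linarith
  · have hd : Curv2.deg k C.subscheme (CohB1.tensorMod NC AC) 1 < 0 := by
      have e := NumConn12.deg_pullback_pt k hdim hy hA
      rw [← e, hdC] at hneg
      rw [hdeg]
      exact_mod_cast hneg
    haveI hsub := ArSurf29.subsingleton_of_deg_neg k (NumConn12.dim_pt hy) hNA hd
    haveI : Subsingleton Γ((Scheme.Modules.pushforward l).obj (CohB1.tensorMod NC AC), ⊤) := hsub
    haveI : Subsingleton Γ((tF N).obj ((Scheme.Modules.pushforward l).obj AC), ⊤) :=
      (Cohom.app_injective_of_mono c₁.hom ⊤).subsingleton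
    exact (ProjCoh.H0top _).injective.subsingleton

variable [IsProper (D ↘ Spec (CommRingCat.of k))]

theorem excess_top : excess ιD k N (⊤ : X.IdealSheafData) = 0 := by
  rw [excess, DecSh20.euler_zero k (Functor.map_isZero (tF N) (isZero_quotOn_top ιD)),
    DecSh20.euler_zero k (isZero_quotOn_top ιD), sub_zero]

theorem subsingleton_top : Subsingleton (Coh.HH D ((tF N).obj (quotOn ιD (⊤ : X.IdealSheafData))) 0) :=
  Cohom.subsingleton_HH_of_isZero (Functor.map_isZero (tF N) (isZero_quotOn_top ιD)) 0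

theorem excess_ker : excess ιD k N ιD.ker = Curv2.deg k D N 1 := by
  obtain ⟨e⟩ := nonempty_quotOn_ker ιD
  rw [excess, Euler.euler_of_iso k ((tF N).mapIso e), Euler.euler_of_iso k e,
    Curv2.deg, Nat.cast_one, one_mul]
  exact congrArg (· - _) (Euler.euler_of_iso k (OX.tensorUnitLeftIso N))

include k in
theorem subsingleton_ker (h : Subsingleton (Coh.HH D ((tF N).obj (quotOn ιD ιD.ker)) 0)) :
    Subsingleton (Coh.HH D N 0) := by
  obtain ⟨e⟩ := nonempty_quotOn_ker ιD
  haveI := h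
  exact (Euler.hhEquiv (A := k) ((tF N).mapIso e ≪≫ (OX.tensorUnitLeftIso N)) 0).symm.toEquiv.subsingleton

end GrothLib.FibreDiv12
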